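import Groth.Agent.EtShSep.Factor
import Groth.Agent.EtShSep.Covered
import Groth.Agent.EtShSep.Forget
import Groth.Agent.GrpField.Irreducible
import Groth.Agent.SectionExt.Basic
import Groth.Agent.SmLocalST.SmoothField
import Groth.Agent.S0558
import Groth.Agent.Rigid.Smooth
import Groth.Agent.NeronBij.Basic
import Mathlib

/-!
# Inverse images along smooth morphisms and opens dense in every fibre
-/

set_option autoImplicit false
set_option backward.isDefEq.respectTransparency false
set_option backward.isDefEq.respectTransparency.types false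
set_option maxHeartbeats 1000000
set_option linter.style.haveILetI false
set_option linter.unusedSectionVars false

universe u

open CategoryTheory CategoryTheory.Limits AlgebraicGeometry Opposite

noncomputable section

namespace Groth.Agent.EtFibDense

open Groth.Agent.EtShLib Groth.Agent.EtShSep

theorem irreducibleSpace_of_domain_stalks {X : Scheme.{u}} [IsNoetherian X] [ConnectedSpace X]
    (hdom : ∀ x : X, IsDomain (X.presheaf.stalk x)) : IrreducibleSpace X := by
  refine Groth.Agent.GrpField.irreducibleSpace_of_nhds fun x => ?_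
  haveI := hdom x
  obtain ⟨V, hxV, -, hV, -⟩ := Groth.Agent.SectionExt.exists_integral_nhd x ⊤ trivial
  refine ⟨V, V.isOpen, ?_, hxV⟩
  haveI := hV
  have h : IsIrreducible (Set.univ : Set V.toScheme) := IrreducibleSpace.isIrreducible_univ _
  have := h.image V.ι V.ι.continuous.continuousOn
  rwa [Set.image_univ, Scheme.Opens.range_ι] at this

/-- connected smooth schemes of finite type over a field are irreducible -/
theorem irreducibleSpace_of_smooth {k : Type u} [Field k] {Z : Scheme.{u}} (f : Z ⟶ Spec (CommRingCat.of k))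
    [Smooth f] [QuasiCompact f] [ConnectedSpace Z] : IrreducibleSpace Z := by
  haveI : IsLocallyNoetherian Z := LocallyOfFiniteType.isLocallyNoetherian f
  haveI : CompactSpace Z := QuasiCompact.compactSpace_of_compactSpace f
  haveI : IsNoetherian Z := {}
  refine irreducibleSpace_of_domain_stalks fun z => ?_
  haveI := SmLocalST.isRegularLocalRing_stalk_of_smooth_field f z
  exact Groth.Agent.S0558.result _

theorem locallyQuasiFinite_of_etale {A B : Scheme.{u}} (f : A ⟶ B) [hf : Etale f] : LocallyQuasiFinite f := by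
  rw [HasRingHomProperty.iff_appLE (P := @LocallyQuasiFinite)]
  intro U V e
  have h := HasRingHomProperty.appLE @Etale f hf U V e
  algebraize [(f.appLE U V e).hom]
  change Algebra.QuasiFinite Γ(B, U) Γ(A, V)
  infer_instance

variable {X U S : Scheme.{u}} (f : X ⟶ S) [Smooth f] (j : U ⟶ X) [IsOpenImmersion j]

theorem isOpenMap_of_universallyOpen {A B : Scheme.{u}} (a : A ⟶ B) [UniversallyOpen a] (B' : Scheme.{u})
    (g : B' ⟶ B) : IsOpenMap (pullback.snd a g) :=
  haveI : UniversallyOpen (pullback.snd a g) := MorphismProperty.pullback_snd _ _ ‹_›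
  (pullback.snd a g).isOpenMap

variable (hd : ∀ x : X, x ∈ closure (Set.range j.base ∩ {y : X | f.base y = f.base x}))

include hd in
/-- the open meets every fibre of a stage -/
theorem exists_mem_stage {T : X.Etale} {V : S.Etale} (a : T.left ⟶ V.left) (w : a ≫ V.hom = T.hom ≫ f)
    (v : V.left) (hv : v ∈ Set.range a) :
    ∃ t : ((EtCoh.bc j).obj T).left, a (pullback.fst T.hom j t) = v := by
  obtain ⟨t₀, rfl⟩ := hv
  haveI := V.prop
  haveI := T.prop
  let s := V.hom (a t₀)
  obtain ⟨O, hO, hOs⟩ : ∃ O : Set V.left, IsOpen O ∧ O ∩ V.hom ⁻¹' {s} = {a t₀} := by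
    haveI := locallyQuasiFinite_of_etale V.hom
    haveI : DiscreteTopology (V.hom ⁻¹' {s} : Set V.left) := (V.hom.isDiscrete_preimage_singleton s).to_subtype
    obtain ⟨O, hO, h⟩ := isOpen_induced_iff.1 (isOpen_discrete ({⟨a t₀, rfl⟩} : Set (V.hom ⁻¹' {s} : Set V.left)))
    refine ⟨O, hO, Set.ext fun y => ⟨fun ⟨hy, hy'⟩ => ?_, ?_⟩⟩
    · exact congrArg Subtype.val (Set.mem_singleton_iff.1 (h.le (show (⟨y, hy'⟩ : (V.hom ⁻¹' {s} : Set V.left)) ∈ _ from hy)))
    · rintro rfl
      exact ⟨h.ge rfl, rfl⟩
  haveI : UniversallyOpen T.hom := inferInstance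
  have hop : IsOpen (T.hom '' (a ⁻¹' O)) := T.hom.isOpenMap _ (hO.preimage a.continuous)
  obtain ⟨y, ⟨t, ht, rfl⟩, ⟨u, hu⟩, hfy⟩ := mem_closure_iff.1 (hd (T.hom t₀)) _ hop
    ⟨t₀, (hOs.ge rfl).1, rfl⟩
  have hat : a t = a t₀ := by
    refine Set.mem_singleton_iff.1 (hOs.le ⟨ht, ?_⟩)
    show V.hom (a t) = s
    have e : ∀ r, V.hom (a r) = f (T.hom r) := fun r =>
      (Scheme.Hom.comp_apply a V.hom r).symm.trans ((congrArg (fun k : T.left ⟶ S => k r) w).trans
        (Scheme.Hom.comp_apply T.hom f r))
    rw [e t]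
    exact hfy.trans (e t₀).symm
  obtain ⟨z, hz, -⟩ := Scheme.Pullback.exists_preimage_pullback (f := T.hom) (g := j) t u hu.symm
  exact ⟨z, (congrArg a hz).trans hat⟩

include hd in
/-- **sheaves of sets: pulled back sections extend uniquely across a fibrewise dense open** -/
theorem isIso_unit_sh (F : EtDesc.Sh S) : IsIso ((EtDesc.adjSh j).unit.app ((EtDesc.pullSh f).obj F)) := by
  haveI : GeometricallyReduced f := Rigid.geometricallyReduced_of_smooth f
  refine isIso_of_bijective_covering _ fun T₀ => ?_
  obtain ⟨ι, Uc, mU, hc, hf⟩ := hasConnCovers f T₀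
  refine ⟨ι, Uc, mU, hc, fun i => ?_⟩
  obtain ⟨V, a, w, hqc, hgc⟩ := hf i
  let T := Uc i
  haveI := T.prop
  haveI := V.prop
  haveI : Flat a := flat_stage f a w
  haveI : Smooth (a ≫ V.hom) := by rw [w]; infer_instance
  haveI : Smooth a := NeronBij.smooth_of_comp a V.hom
  haveI := hqc
  haveI := hgc
  let δ := mkδ f a w
  have hsrc : Function.Bijective (ru f F δ) := bijective_ru_of_geomConnected f F a w
  let T' := (EtCoh.bc j).obj T
  let a' : T'.left ⟶ V.left := pullback.fst T.hom j ≫ a
  have w' : a' ≫ V.hom = T'.hom ≫ j ≫ f := by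
    show (pullback.fst T.hom j ≫ a) ≫ V.hom = pullback.snd T.hom j ≫ j ≫ f
    rw [Category.assoc, w, ← Category.assoc, pullback.condition, Category.assoc]
  have hc' : ∀ (Ω : Type u) [Field Ω] (s : Spec (CommRingCat.of Ω) ⟶ V.left), ConnectedSpace ↥(pullback a' s) := by
    intro Ω _ s
    haveI : ConnectedSpace ↥(pullback a s) :=
      GeometricallyConnected.geometrically_connectedSpace (f := a) s (pullback.fst a s) (pullback.snd a s)
        (IsPullback.of_hasPullback a s)
    haveI : Smooth (pullback.snd a s) := inferInstance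
    haveI : QuasiCompact (pullback.snd a s) := MorphismProperty.pullback_snd _ _ ‹_›
    haveI : IrreducibleSpace ↥(pullback a s) := irreducibleSpace_of_smooth (pullback.snd a s)
    let m : pullback a' s ⟶ pullback a s :=
      pullback.lift (pullback.fst a' s ≫ pullback.fst T.hom j) (pullback.snd a' s) (by
        rw [Category.assoc]; exact pullback.condition)
    have hm : IsPullback (pullback.fst a' s) m (pullback.fst T.hom j) (pullback.fst a s) :=
      IsPullback.of_bot (by rw [pullback.lift_snd]; exact IsPullback.of_hasPullback a' s)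
        (pullback.lift_fst _ _ _).symm (IsPullback.of_hasPullback a s)
    haveI : IsOpenImmersion m := MorphismProperty.of_isPullback hm inferInstance
    haveI : Nonempty ↥(pullback a' s) := by
      have hv : s default ∈ Set.range a := by
        obtain ⟨z⟩ := (inferInstance : Nonempty ↥(pullback a s))
        refine ⟨pullback.fst a s z, ?_⟩
        rw [← Scheme.Hom.comp_apply, pullback.condition, Scheme.Hom.comp_apply]
        exact congrArg s (Subsingleton.elim (α := Spec (CommRingCat.of Ω)) _ _)
      obtain ⟨t, ht⟩ := exists_mem_stage f j hd a w _ hv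
      obtain ⟨z, -⟩ := Scheme.Pullback.exists_preimage_pullback (f := a') (g := s) t default ht
      exact ⟨z⟩
    have hi : IsIrreducible (Set.univ : Set ↥(pullback a' s)) := by
      refine ⟨Set.univ_nonempty, ?_⟩
      rintro u v hu hv ⟨x, -, hx⟩ ⟨y, -, hy⟩
      obtain ⟨_, -, ⟨z, hz, rfl⟩, ⟨z', hz', h⟩⟩ := (IrreducibleSpace.isIrreducible_univ ↥(pullback a s)).2 (m '' u) (m '' v)
        (m.isOpenEmbedding.isOpenMap _ hu) (m.isOpenEmbedding.isOpenMap _ hv)
        ⟨m x, trivial, ⟨x, hx, rfl⟩⟩ ⟨m y, trivial, ⟨y, hy, rfl⟩⟩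
      exact ⟨z, trivial, hz, m.isOpenEmbedding.injective h ▸ hz'⟩
    haveI : IrreducibleSpace ↥(pullback a' s) := (irreducibleSpace_def _).2 hi
    infer_instance
  haveI : Smooth a' := inferInstance
  haveI : Surjective a' := ⟨fun v => by
    haveI := hc' _ (V.left.fromSpecResidueField v)
    obtain ⟨z⟩ := (inferInstance : Nonempty ↥(pullback a' (V.left.fromSpecResidueField v)))
    refine ⟨pullback.fst a' _ z, ?_⟩
    rw [← Scheme.Hom.comp_apply, pullback.condition, Scheme.Hom.comp_apply]
    exact Set.mem_singleton_iff.1 ((Scheme.range_fromSpecResidueField v).le ⟨_, rfl⟩)⟩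
  haveI : UniversallyOpen a' := inferInstance
  have hsub : ∀ (S' : Scheme.{u}) (g : S' ⟶ V.left), Topology.IsQuotientMap (pullback.snd a' g) := fun S' g => by
    haveI : Surjective (pullback.snd a' g) := MorphismProperty.pullback_snd _ _ ‹Surjective a'›
    exact (isOpenMap_of_universallyOpen a' S' g).isQuotientMap (pullback.snd a' g).continuous (pullback.snd a' g).surjective
  have htgt : Function.Bijective (ru (j ≫ f) F (mkδ (j ≫ f) a' w')) :=
    bijective_ru_of_connected (j ≫ f) F a' w' hsub fun Ω _ _ s => hc' Ω s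
  obtain ⟨θ, hθi, hθ⟩ := exists_nested j f (j ≫ f) rfl F
  haveI := hθi
  haveI : IsIso θ.hom := inferInstanceAs (IsIso ((sheafToPresheaf _ _).map θ))
  have key : ∀ s, θ.hom.app (op T') (((EtDesc.adjSh j).unit.app ((EtDesc.pullSh f).obj F)).hom.app (op T) (ru f F δ s)) =
      ru (j ≫ f) F (mkδ (j ≫ f) a' w') s := fun s => by
    refine (congrArg _ (NatTrans.naturality_apply ((EtDesc.adjSh j).unit.app ((EtDesc.pullSh f).obj F)).hom δ.op
      (unitSect f F V s))).trans ?_
    refine hθ T' V ((EtCoh.bc j).map δ) (mkδ (j ≫ f) a' w') ?_ s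
    rw [mkδ_fst]
    refine (Category.assoc _ _ _).symm.trans ((congrArg (· ≫ pullback.fst V.hom f) (bc_map_fst j δ)).trans ?_)
    exact (Category.assoc _ _ _).trans (congrArg (pullback.fst T.hom j ≫ ·) (mkδ_fst f a w))
  have h1 : Function.Bijective fun s => θ.hom.app (op T')
      (((EtDesc.adjSh j).unit.app ((EtDesc.pullSh f).obj F)).hom.app (op T) (ru f F δ s)) := by
    rw [funext key]
    exact htgt
  have h2 : Function.Bijective fun x => θ.hom.app (op T')
      (((EtDesc.adjSh j).unit.app ((EtDesc.pullSh f).obj F)).hom.app (op T) x) :=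
    (Function.Bijective.of_comp_iff _ hsrc).mp h1
  exact (Function.Bijective.of_comp_iff' (ConcreteCategory.bijective_of_isIso (θ.hom.app (op T'))) _).mp h2

include hd in
/-- **abelian sheaves** -/
theorem isIso_unit (F : EtCoh.Ab S) : IsIso ((EtCoh.pullPushAdj j).unit.app ((EtCoh.pull f).obj F)) := by
  haveI := isIso_pullCmp f F
  haveI := isIso_pullCmp j ((EtCoh.pull f).obj F)
  haveI := isIso_unit_sh f j hd ((undSh S).obj F)
  let e := pullCmp f F
  have hu : IsIso ((EtDesc.adjSh j).unit.app ((undSh X).obj ((EtCoh.pull f).obj F))) := by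
    have h := (EtDesc.adjSh j).unit.naturality e
    dsimp at h
    haveI : IsIso (e ≫ (EtDesc.adjSh j).unit.app ((undSh X).obj ((EtCoh.pull f).obj F))) := by
      rw [h]; infer_instance
    exact IsIso.of_isIso_comp_left e _
  haveI := hu
  apply isIso_of_isIso_undSh
  rw [← unit_pullCmp]
  infer_instance

end Groth.Agent.EtFibDense
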